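import Groth.Agent.MilnorLib.Criteria

/-!
# Properties of algebras over a Milnor square are tested on the two sides
-/

set_option autoImplicit false

open TensorProduct

namespace Groth.Agent.MilnorLib

universe u

variable {B' B A' A : Type u} [CommRing B'] [CommRing B] [CommRing A'] [CommRing A]
  [Algebra B' B] [Algebra B' A'] [Algebra B A] [Algebra A' A] [Algebra B' A]
  [IsScalarTower B' B A] [IsScalarTower B' A' A]
variable (hsq : EtMil.IsFibreSquare B' B A' A)

local notation "J" => RingHom.ker (algebraMap B' B)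

include hsq in
/-- every prime lies under a prime of one of the two rings -/
theorem exists_prime_over' (p : Ideal B') [hp : p.IsPrime] :
    (∃ q : PrimeSpectrum B, q.asIdeal.comap (algebraMap B' B) = p) ∨
      ∃ q : PrimeSpectrum A', q.asIdeal.comap (algebraMap B' A') = p := by
  by_cases hJ : J ≤ p
  · have hs := surjective_algebraMap hsq
    refine Or.inl ⟨⟨p.map (algebraMap B' B), Ideal.map_isPrime_of_surjective hs hJ⟩, ?_⟩
    show (p.map (algebraMap B' B)).comap (algebraMap B' B) = p
    rw [Ideal.comap_map_of_surjective' _ hs, sup_eq_left.2 hJ]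
  · right
    obtain ⟨j, hj, hjp⟩ := SetLike.not_le_iff_exists.1 hJ
    have hmul : ∀ a b : A', mu hsq j hj a * mu hsq j hj b = j * mu hsq j hj (a * b) := fun a b =>
      ext_of_mem_ker hsq (Ideal.mul_mem_right _ _ (mu_mem hsq j hj a))
        (Ideal.mul_mem_right _ _ hj) (by rw [map_mul, map_mul, map_mu, map_mu, map_mu]; ring)
    let q : Ideal A' :=
      { carrier := {a | mu hsq j hj a ∈ p}
        add_mem' := fun {a b} ha hb => by
          show mu hsq j hj (a + b) ∈ p
          rw [map_add]; exact add_mem ha hb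
        zero_mem' := by show mu hsq j hj 0 ∈ p; rw [map_zero]; exact zero_mem _
        smul_mem' := fun c a ha => by
          refine (hp.mem_or_mem (x := j) ?_).resolve_left hjp
          rw [smul_eq_mul, ← hmul]
          exact Ideal.mul_mem_left _ _ ha }
    have hq : q.IsPrime := by
      refine ⟨fun h => hjp ?_, fun {a b} hab => hp.mem_or_mem ?_⟩
      · have h1 : (1 : A') ∈ q := h ▸ Submodule.mem_top
        have h2 : mu hsq j hj 1 ∈ p := h1
        rwa [mu_one] at h2
      · rw [hmul]; exact Ideal.mul_mem_left _ _ hab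
    refine ⟨⟨q, hq⟩, Ideal.ext fun x => ?_⟩
    show mu hsq j hj (algebraMap B' A' x) ∈ p ↔ x ∈ p
    rw [← mul_one (algebraMap B' A' x), ← Algebra.smul_def, map_smul, mu_one, smul_eq_mul]
    exact ⟨fun h => (hp.mem_or_mem h).resolve_right hjp, fun h => Ideal.mul_mem_right _ _ h⟩

variable (D' : Type u) [CommRing D'] [Algebra B' D']

omit [CommRing A] in
theorem exists_finset_map_surjective (S : Type u) [CommRing S] [Algebra B' S]
    [h : Algebra.FiniteType S (S ⊗[B'] D')] :
    ∃ s : Finset D', ∀ N : Subalgebra B' D', (s : Set D') ⊆ N →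
      Function.Surjective (Algebra.TensorProduct.map (AlgHom.id S S) N.val) := by
  classical
  have key : ∀ x : S ⊗[B'] D', ∃ s : Finset D', ∀ N : Subalgebra B' D', (s : Set D') ⊆ N →
      x ∈ (Algebra.TensorProduct.map (AlgHom.id S S) N.val).range := by
    intro x
    induction x using TensorProduct.induction_on with
    | zero => exact ⟨∅, fun N _ => zero_mem _⟩
    | tmul c d => exact ⟨{d}, fun N hN => ⟨c ⊗ₜ ⟨d, hN (by simp)⟩, rfl⟩⟩
    | add x y hx hy =>
      obtain ⟨s, hs⟩ := hx
      obtain ⟨t, ht⟩ := hy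
      exact ⟨s ∪ t, fun N hN => add_mem (hs N (subset_trans (by simp) hN)) (ht N (subset_trans (by simp) hN))⟩
  choose s hs using key
  obtain ⟨t, ht⟩ := h.out
  refine ⟨t.biUnion s, fun N hN => ?_⟩
  rw [← AlgHom.range_eq_top, eq_top_iff, ← ht, Algebra.adjoin_le_iff]
  intro x hx
  exact hs x N (subset_trans (Finset.coe_subset.2 (Finset.subset_biUnion_of_mem s hx)) hN)

include hsq in
theorem finiteType_of_pair [Algebra.FiniteType B (B ⊗[B'] D')] [Algebra.FiniteType A' (A' ⊗[B'] D')] :
    Algebra.FiniteType B' D' := by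
  classical
  obtain ⟨s₁, h₁⟩ := exists_finset_map_surjective (B' := B') D' B
  obtain ⟨s₂, h₂⟩ := exists_finset_map_surjective (B' := B') D' A'
  let N := Algebra.adjoin B' ((s₁ ∪ s₂ : Finset D') : Set D')
  have hN : ∀ (S : Type u) [CommRing S] [Algebra B' S],
      Function.Surjective (Algebra.TensorProduct.map (AlgHom.id S S) N.val) →
      Subsingleton (S ⊗[B'] (D' ⧸ N.toSubmodule)) := by
    intro S _ _ hs
    refine ⟨fun a b => ?_⟩
    suffices ∀ z : S ⊗[B'] (D' ⧸ N.toSubmodule), z = 0 by rw [this a, this b]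
    intro z
    obtain ⟨w, rfl⟩ := LinearMap.lTensor_surjective S N.toSubmodule.mkQ_surjective z
    obtain ⟨v, rfl⟩ := hs w
    induction v using TensorProduct.induction_on with
    | zero => simp
    | tmul c d =>
      show N.toSubmodule.mkQ.lTensor S (c ⊗ₜ (d : D')) = 0
      rw [LinearMap.lTensor_tmul, Submodule.mkQ_apply, (Submodule.Quotient.mk_eq_zero _).2 d.2, tmul_zero]
    | add x y hx hy => rw [map_add, map_add, hx, hy, add_zero]
  haveI := hN B (h₁ N (fun l hl => Algebra.subset_adjoin (by simp [Finset.mem_coe.1 hl])))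
  haveI := hN A' (h₂ N (fun l hl => Algebra.subset_adjoin (by simp [Finset.mem_coe.1 hl])))
  have := subsingleton_of_pair hsq (L := D' ⧸ N.toSubmodule)
  refine ⟨⟨s₁ ∪ s₂, ?_⟩⟩
  rw [← Algebra.toSubmodule_eq_top]
  exact Submodule.Quotient.subsingleton_iff.1 this

omit [CommRing A] in
theorem exists_finset_ker {P : Type u} [CommRing P] [Algebra B' P] (f : P →ₐ[B'] D')
    (hf : Function.Surjective f) (S : Type u) [CommRing S] [Algebra B' S]
    [Algebra.FinitePresentation B' P] [Algebra.FinitePresentation S (S ⊗[B'] D')] :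
    ∃ s : Finset P, (s : Set P) ⊆ RingHom.ker f ∧ ∀ K0 : Ideal P, (s : Set P) ⊆ K0 → K0 ≤ RingHom.ker f →
      K0.map (Algebra.TensorProduct.includeRight : P →ₐ[B'] S ⊗[B'] P) =
        RingHom.ker (Algebra.TensorProduct.map (AlgHom.id B' S) f) := by
  classical
  let fS := Algebra.TensorProduct.map (AlgHom.id S S) f
  have hfS : Function.Surjective fS := LinearMap.lTensor_surjective S hf
  have hfg : (RingHom.ker fS.toRingHom).FG := Algebra.FinitePresentation.ker_fG_of_surjective fS hfS
  rw [show RingHom.ker fS.toRingHom = RingHom.ker (Algebra.TensorProduct.map (AlgHom.id B' S) f) from rfl,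
    Algebra.TensorProduct.lTensor_ker f hf] at hfg
  obtain ⟨T, hT, hspan⟩ := Submodule.fg_span_iff_fg_span_finset_subset _ |>.1 hfg
  obtain ⟨s, hs, rfl⟩ := Finset.subset_set_image_iff.1 (show (T : Set (S ⊗[B'] P)) ⊆
      (Algebra.TensorProduct.includeRight : P →ₐ[B'] S ⊗[B'] P) '' (RingHom.ker f : Set P) from fun x hx => hT hx)
  refine ⟨s, hs, fun K0 h1 h2 => ?_⟩
  rw [Algebra.TensorProduct.lTensor_ker f hf]
  refine le_antisymm (Ideal.map_mono h2) ?_
  have e : Ideal.map (Algebra.TensorProduct.includeRight : P →ₐ[B'] S ⊗[B'] P) (RingHom.ker f) =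
      Ideal.span ↑(Finset.image (Algebra.TensorProduct.includeRight : P →ₐ[B'] S ⊗[B'] P) s) := hspan
  rw [e, Ideal.span_le, Finset.coe_image]
  rintro _ ⟨x, hx, rfl⟩
  exact Ideal.mem_map_of_mem _ (h1 hx)

include hsq in
theorem finitePresentation_algebra_of_pair [Module.Flat B' D']
    [Algebra.FinitePresentation B (B ⊗[B'] D')] [Algebra.FinitePresentation A' (A' ⊗[B'] D')] :
    Algebra.FinitePresentation B' D' := by
  classical
  haveI := finiteType_of_pair hsq D'
  obtain ⟨n, f, hf⟩ := Algebra.FiniteType.iff_quotient_mvPolynomial''.mp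
    (inferInstance : Algebra.FiniteType B' D')
  obtain ⟨s₁, hs₁, h₁⟩ := exists_finset_ker (B' := B') D' f hf B
  obtain ⟨s₂, hs₂, h₂⟩ := exists_finset_ker (B' := B') D' f hf A'
  let K0 : Ideal (MvPolynomial (Fin n) B') := Ideal.span ↑(s₁ ∪ s₂)
  have hK0 : K0 ≤ RingHom.ker f := Ideal.span_le.2 (by
    rw [Finset.coe_union]; exact Set.union_subset hs₁ hs₂)
  let g : (MvPolynomial (Fin n) B' ⧸ K0) →ₐ[B'] D' := Ideal.Quotient.liftₐ K0 f hK0
  have hg : Function.Surjective g := fun x => by
    obtain ⟨y, rfl⟩ := hf x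
    exact ⟨Ideal.Quotient.mk K0 y, rfl⟩
  let mk : MvPolynomial (Fin n) B' →ₐ[B'] MvPolynomial (Fin n) B' ⧸ K0 := Ideal.Quotient.mkₐ B' K0
  have hcomp : g.comp mk = f := AlgHom.ext fun x => rfl
  have hsub : ∀ (S : Type u) [CommRing S] [Algebra B' S],
      K0.map (Algebra.TensorProduct.includeRight : _ →ₐ[B'] S ⊗[B'] MvPolynomial (Fin n) B') =
        RingHom.ker (Algebra.TensorProduct.map (AlgHom.id B' S) f) →
      Subsingleton (S ⊗[B'] LinearMap.ker g.toLinearMap) := by
    intro S _ _ hS
    refine subsingleton_tensor_ker g.toLinearMap hg S ?_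
    refine (injective_iff_map_eq_zero _).2 fun z hz => ?_
    obtain ⟨y, rfl⟩ := LinearMap.lTensor_surjective S
      (show Function.Surjective mk.toLinearMap from Ideal.Quotient.mk_surjective) z
    have hy : Algebra.TensorProduct.map (AlgHom.id B' S) f y = 0 := by
      rw [← hcomp]
      rw [← hz]
      clear hz
      induction y using TensorProduct.induction_on with
      | zero => simp
      | tmul c p => rfl
      | add a b ha hb => simp only [map_add, ha, hb]
    have hy' : y ∈ RingHom.ker (Algebra.TensorProduct.map (AlgHom.id B' S) mk) := by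
      rw [Algebra.TensorProduct.lTensor_ker mk Ideal.Quotient.mk_surjective,
        show RingHom.ker mk = K0 from Ideal.Quotient.mkₐ_ker B' K0, hS]
      exact hy
    exact hy'
  haveI := hsub B (h₁ K0 (fun x hx => Ideal.subset_span (by simp [Finset.mem_coe.1 hx])) hK0)
  haveI := hsub A' (h₂ K0 (fun x hx => Ideal.subset_span (by simp [Finset.mem_coe.1 hx])) hK0)
  have := subsingleton_of_pair hsq (L := LinearMap.ker g.toLinearMap)
  have hinj : Function.Injective g :=
    LinearMap.ker_eq_bot.1 (Submodule.eq_bot_of_subsingleton (p := LinearMap.ker g.toLinearMap))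
  haveI : Algebra.FinitePresentation B' (MvPolynomial (Fin n) B' ⧸ K0) :=
    Algebra.FinitePresentation.quotient (Submodule.fg_span (Finset.finite_toSet _))
  exact Algebra.FinitePresentation.equiv (AlgEquiv.ofBijective g ⟨hinj, hg⟩)

omit [CommRing A] in
theorem formallySmooth_fiber_of_prime_over (S : Type u) [CommRing S] [Algebra B' S]
    [Algebra.Smooth S (S ⊗[B'] D')] (I : Ideal B') [I.IsPrime] (q : PrimeSpectrum S)
    (hq : q.asIdeal.comap (algebraMap B' S) = I) :
    Algebra.FormallySmooth I.ResidueField (I.Fiber D') := by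
  let T := q.asIdeal.ResidueField
  letI : Algebra I.ResidueField T :=
    (Ideal.ResidueField.map I q.asIdeal (algebraMap B' S) hq.symm).toAlgebra
  haveI : IsScalarTower B' I.ResidueField T := IsScalarTower.of_algebraMap_eq fun r => by
    rw [RingHom.algebraMap_toAlgebra, Ideal.ResidueField.map_algebraMap]
    exact IsScalarTower.algebraMap_apply B' S T r
  haveI : Algebra.Smooth T (T ⊗[B'] D') :=
    Algebra.Smooth.of_equiv (Algebra.TensorProduct.cancelBaseChange B' S T T D')
  haveI : Algebra.Smooth T (T ⊗[I.ResidueField] I.Fiber D') :=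
    Algebra.Smooth.of_equiv (Algebra.TensorProduct.cancelBaseChange B' I.ResidueField T T D').symm
  haveI := Algebra.Smooth.of_smooth_tensorProduct_of_faithfullyFlat (R := I.ResidueField)
    (S := I.Fiber D') T
  infer_instance

include hsq in
theorem smooth_of_pair [Algebra.Smooth B (B ⊗[B'] D')] [Algebra.Smooth A' (A' ⊗[B'] D')] :
    Algebra.Smooth B' D' := by
  haveI := flat_of_pair hsq D'
  haveI := finitePresentation_algebra_of_pair hsq D'
  refine Algebra.Smooth.of_formallySmooth_fiber fun I hI => ?_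
  rcases exists_prime_over' hsq I with ⟨q, hq⟩ | ⟨q, hq⟩
  · exact formallySmooth_fiber_of_prime_over D' B I q hq
  · exact formallySmooth_fiber_of_prime_over D' A' I q hq

omit [CommRing A] in
theorem subsingleton_tensor_kaehler (S : Type u) [CommRing S] [Algebra B' S]
    [Algebra.FormallyUnramified S (S ⊗[B'] D')] : Subsingleton (S ⊗[B'] Ω[D'⁄B']) := by
  let _ : Algebra D' (S ⊗[B'] D') := Algebra.TensorProduct.rightAlgebra
  exact (KaehlerDifferential.tensorKaehlerEquivBase B' S D' (S ⊗[B'] D')).subsingleton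

include hsq in
theorem etale_of_pair [Algebra.Etale B (B ⊗[B'] D')] [Algebra.Etale A' (A' ⊗[B'] D')] :
    Algebra.Etale B' D' := by
  haveI := flat_of_pair hsq D'
  haveI := finitePresentation_algebra_of_pair hsq D'
  haveI := subsingleton_tensor_kaehler (B' := B') D' B
  haveI := subsingleton_tensor_kaehler (B' := B') D' A'
  haveI : Algebra.FormallyUnramified B' D' := ⟨subsingleton_of_pair hsq (L := Ω[D'⁄B'])⟩
  exact Algebra.Etale.of_formallyUnramified_of_flat

end Groth.Agent.MilnorLib
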