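import Groth.Agent.MilnorLib.Criteria
import Groth.Agent.CSA.EtaleSpread

/-!
# Azumaya algebras over a Milnor square
-/

set_option autoImplicit false

open TensorProduct

namespace Groth.Agent.MilnorLib

universe u

variable {B' B A' A : Type u} [CommRing B'] [CommRing B] [CommRing A'] [CommRing A]
  [Algebra B' B] [Algebra B' A'] [Algebra B A] [Algebra A' A] [Algebra B' A]
  [IsScalarTower B' B A] [IsScalarTower B' A' A]

theorem isAzumaya_residueField {R S : Type u} [CommRing R] [CommRing S] [Algebra R S]
    (D : Type u) [Ring D] [Algebra R D] [IsAzumaya S (S ⊗[R] D)] (q : Ideal S) [q.IsPrime] :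
    IsAzumaya q.ResidueField (q.ResidueField ⊗[R] D) := by
  haveI := CSA.isAzumaya_baseChange S q.ResidueField (S ⊗[R] D)
  exact IsAzumaya.of_AlgEquiv q.ResidueField _ _ (CSA.cancelBaseChangeRing R S q.ResidueField D)

theorem isAzumaya_of_pair (hsq : EtMil.IsFibreSquare B' B A' A) (D : Type u) [Ring D] [Algebra B' D]
    [IsAzumaya B (B ⊗[B'] D)] [IsAzumaya A' (A' ⊗[B'] D)] : IsAzumaya B' D := by
  obtain ⟨_, _⟩ := projective_of_pair hsq D
  refine CSA.isAzumaya_of_fibres B' D fun m _ => ?_
  rcases exists_prime_over hsq m with ⟨q, hq⟩ | ⟨q, hq⟩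
  · refine ⟨q.asIdeal.ResidueField, inferInstance, inferInstance, fun r hr => ?_,
      isAzumaya_residueField D q.asIdeal⟩
    rw [IsScalarTower.algebraMap_apply B' B q.asIdeal.ResidueField]
    exact Ideal.algebraMap_residueField_eq_zero.mpr (hq.ge hr)
  · refine ⟨q.asIdeal.ResidueField, inferInstance, inferInstance, fun r hr => ?_,
      isAzumaya_residueField D q.asIdeal⟩
    rw [IsScalarTower.algebraMap_apply B' A' q.asIdeal.ResidueField]
    exact Ideal.algebraMap_residueField_eq_zero.mpr (hq.ge hr)

theorem isAzumaya_of_bijective_lift {R S : Type u} [CommRing R] [CommRing S] [Algebra R S]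
    {D N : Type u} [Ring D] [Algebra R D] [Ring N] [Algebra S N] [Algebra R N] [IsScalarTower R S N]
    [IsAzumaya S N] (f : D →ₐ[R] N) (h : Function.Bijective (f.toLinearMap.liftBaseChange S)) :
    IsAzumaya S (S ⊗[R] D) := by
  let F : S ⊗[R] D →ₐ[S] N :=
    Algebra.TensorProduct.lift (Algebra.ofId S N) f fun s d => Algebra.commutes s (f d)
  have hF : (F : S ⊗[R] D → N) = f.toLinearMap.liftBaseChange S := funext fun z => by
    induction z using TensorProduct.induction_on with
    | zero => simp
    | tmul s d => simp [F, Algebra.smul_def]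
    | add x y hx hy => simp only [map_add, hx, hy]
  exact IsAzumaya.of_AlgEquiv S _ _ (AlgEquiv.ofBijective F (hF ▸ h)).symm

end Groth.Agent.MilnorLib
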