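import Mathlib
import Groth.Prelude.Def_EtMil

/-!
# Milnor squares of rings: elementary facts

`J = ker (B' → B)` is mapped isomorphically onto `I = ker (A' → A)`, so `J` is an `A'`-module.
-/

set_option autoImplicit false

open TensorProduct

namespace Groth.Agent.MilnorLib

universe u v

variable {B' B A' A : Type u} [CommRing B'] [CommRing B] [CommRing A'] [CommRing A]
  [Algebra B' B] [Algebra B' A'] [Algebra B A] [Algebra A' A] [Algebra B' A]
  [IsScalarTower B' B A] [IsScalarTower B' A' A]
variable (hsq : EtMil.IsFibreSquare B' B A' A)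

local notation "J" => RingHom.ker (algebraMap B' B)
local notation "K" => RingHom.ker (algebraMap B' A')
local notation "I" => RingHom.ker (algebraMap A' A)

include hsq

theorem surjective_algebraMap : Function.Surjective (algebraMap B' B) := fun b => by
  obtain ⟨a', ha'⟩ := hsq.1 (algebraMap B A b)
  obtain ⟨b', ⟨h1, -⟩, -⟩ := hsq.2 b a' ha'.symm
  exact ⟨b', h1⟩

theorem eq_of_images {x y : B'} (h1 : algebraMap B' B x = algebraMap B' B y)
    (h2 : algebraMap B' A' x = algebraMap B' A' y) : x = y := by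
  obtain ⟨z, -, hz⟩ := hsq.2 (algebraMap B' B x) (algebraMap B' A' x)
    (by rw [← IsScalarTower.algebraMap_apply, ← IsScalarTower.algebraMap_apply])
  rw [hz x ⟨rfl, rfl⟩, hz y ⟨h1.symm, h2.symm⟩]

omit hsq in
theorem map_mem_ker {j : B'} (hj : j ∈ J) : algebraMap B' A' j ∈ I := by
  rw [RingHom.mem_ker] at hj ⊢
  rw [← IsScalarTower.algebraMap_apply, IsScalarTower.algebraMap_apply B' B A, hj, map_zero]

theorem exists_lift_ker {i : A'} (hi : i ∈ I) :
    ∃ j : B', j ∈ J ∧ algebraMap B' A' j = i := by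
  obtain ⟨b', ⟨h1, h2⟩, -⟩ := hsq.2 0 i (by rw [map_zero]; exact (RingHom.mem_ker.1 hi).symm)
  exact ⟨b', RingHom.mem_ker.2 h1, h2⟩

theorem ext_of_mem_ker {j j' : B'} (hj : j ∈ J) (hj' : j' ∈ J)
    (h : algebraMap B' A' j = algebraMap B' A' j') : j = j' :=
  eq_of_images hsq ((RingHom.mem_ker.1 hj).trans (RingHom.mem_ker.1 hj').symm) h

theorem mul_eq_zero_of_ker {j k : B'} (hj : j ∈ J) (hk : k ∈ K) : j * k = 0 :=
  ext_of_mem_ker hsq (Ideal.mul_mem_right _ _ hj) (zero_mem _) (by
    rw [map_mul, RingHom.mem_ker.1 hk, mul_zero, map_zero])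

/-- `a ↦ j · a`, landing in `B'` -/
noncomputable def mu (j : B') (hj : j ∈ J) : A' →ₗ[B'] B' where
  toFun a := (exists_lift_ker hsq (i := algebraMap B' A' j * a)
    (Ideal.mul_mem_right _ _ (map_mem_ker hj))).choose
  map_add' a a' := by
    have h : ∀ x, _ := fun x => (exists_lift_ker hsq (i := algebraMap B' A' j * x)
      (Ideal.mul_mem_right _ _ (map_mem_ker hj))).choose_spec
    exact ext_of_mem_ker hsq (h _).1 (add_mem (h _).1 (h _).1) (by
      rw [map_add, (h _).2, (h _).2, (h _).2, mul_add])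
  map_smul' c a := by
    have h : ∀ x, _ := fun x => (exists_lift_ker hsq (i := algebraMap B' A' j * x)
      (Ideal.mul_mem_right _ _ (map_mem_ker hj))).choose_spec
    rw [RingHom.id_apply, smul_eq_mul]
    exact ext_of_mem_ker hsq (h _).1 (Ideal.mul_mem_left _ _ (h _).1) (by
      rw [map_mul, (h _).2, (h _).2, Algebra.smul_def]; ring)

theorem mu_mem (j : B') (hj : j ∈ J) (a : A') : mu hsq j hj a ∈ J :=
  (exists_lift_ker hsq (i := algebraMap B' A' j * a)
    (Ideal.mul_mem_right _ _ (map_mem_ker hj))).choose_spec.1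

theorem map_mu (j : B') (hj : j ∈ J) (a : A') :
    algebraMap B' A' (mu hsq j hj a) = algebraMap B' A' j * a :=
  (exists_lift_ker hsq (i := algebraMap B' A' j * a)
    (Ideal.mul_mem_right _ _ (map_mem_ker hj))).choose_spec.2

theorem mu_one (j : B') (hj : j ∈ J) : mu hsq j hj 1 = j :=
  ext_of_mem_ker hsq (mu_mem hsq j hj 1) hj (by rw [map_mu, mul_one])

theorem exists_smul_one (b : B) : ∃ c : B', c • (1 : B) = b := by
  obtain ⟨c, hc⟩ := surjective_algebraMap hsq b
  exact ⟨c, by rw [Algebra.smul_def, mul_one, hc]⟩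

section Module

variable {L : Type v} [AddCommGroup L] [Module B' L]

theorem smul_eq_zero_of_tmul_eq_zero {j : B'} (hj : j ∈ J) {l : L}
    (h : ((1 : A') ⊗ₜ[B'] l : A' ⊗[B'] L) = 0) : j • l = 0 := by
  have := congrArg (TensorProduct.lift ((LinearMap.lsmul B' L).comp (mu hsq j hj))) h
  simpa [mu_one] using this

theorem mk_surjective (x : B ⊗[B'] L) : ∃ l : L, (1 : B) ⊗ₜ[B'] l = x :=
  TensorProduct.mk_surjective B' L B (surjective_algebraMap hsq) x

theorem tmul_eq_zero_iff {l : L} :
    ((1 : B) ⊗ₜ[B'] l : B ⊗[B'] L) = 0 ↔ l ∈ J • (⊤ : Submodule B' L) := by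
  constructor
  · intro h
    let q : B →ₗ[B'] (L →ₗ[B'] L ⧸ (J • (⊤ : Submodule B' L))) :=
      { toFun := fun b => (surjective_algebraMap hsq b).choose • (J • (⊤ : Submodule B' L)).mkQ
        map_add' := fun b b' => by
          ext x
          simp only [LinearMap.smul_apply, LinearMap.add_apply, ← add_smul, Submodule.mkQ_apply,
            ← Submodule.Quotient.mk_smul]
          rw [Submodule.Quotient.eq, ← sub_smul]
          refine Submodule.smul_mem_smul ?_ Submodule.mem_top
          rw [RingHom.mem_ker, map_sub, map_add, (surjective_algebraMap hsq _).choose_spec,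
            (surjective_algebraMap hsq _).choose_spec, (surjective_algebraMap hsq _).choose_spec, sub_self]
        map_smul' := fun c b => by
          ext x
          simp only [RingHom.id_apply, LinearMap.smul_apply, smul_smul, Submodule.mkQ_apply,
            ← Submodule.Quotient.mk_smul]
          rw [Submodule.Quotient.eq, ← sub_smul]
          refine Submodule.smul_mem_smul ?_ Submodule.mem_top
          rw [RingHom.mem_ker, map_sub, map_mul, (surjective_algebraMap hsq _).choose_spec,
            (surjective_algebraMap hsq _).choose_spec, Algebra.smul_def, sub_self] }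
    have h' := congrArg (TensorProduct.lift q) h
    rw [TensorProduct.lift.tmul, map_zero] at h'
    have h'' : (surjective_algebraMap hsq (1 : B)).choose • l ∈ J • (⊤ : Submodule B' L) := by
      simpa [q, ← Submodule.Quotient.mk_smul, Submodule.Quotient.mk_eq_zero] using h'
    have h1 : (1 - (surjective_algebraMap hsq (1 : B)).choose) • l ∈ J • (⊤ : Submodule B' L) := by
      refine Submodule.smul_mem_smul ?_ Submodule.mem_top
      rw [RingHom.mem_ker, map_sub, map_one, (surjective_algebraMap hsq _).choose_spec, sub_self]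
    have := add_mem h1 h''
    rwa [← add_smul, sub_add_cancel, one_smul] at this
  · intro h
    refine Submodule.smul_induction_on h (fun j hj x _ => ?_) fun x y hx hy => by
      rw [tmul_add, hx, hy, add_zero]
    rw [← smul_tmul, Algebra.smul_def, RingHom.mem_ker.1 hj, zero_mul, zero_tmul]

theorem ker_pair {l : L} (h1 : ((1 : B) ⊗ₜ[B'] l : B ⊗[B'] L) = 0)
    (h2 : ((1 : A') ⊗ₜ[B'] l : A' ⊗[B'] L) = 0) :
    (∀ j : B', j ∈ J → j • l = 0) ∧ l ∈ J • (⊤ : Submodule B' L) :=
  ⟨fun _ hj => smul_eq_zero_of_tmul_eq_zero hsq hj h2, (tmul_eq_zero_iff hsq).1 h1⟩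

theorem subsingleton_of_pair [Subsingleton (B ⊗[B'] L)] [Subsingleton (A' ⊗[B'] L)] :
    Subsingleton L := by
  refine ⟨fun a b => ?_⟩
  suffices ∀ x : L, x = 0 by rw [this a, this b]
  intro x
  obtain ⟨-, h⟩ := ker_pair hsq (l := x) (Subsingleton.elim _ _) (Subsingleton.elim _ _)
  refine Submodule.smul_induction_on h (fun j hj y _ => ?_) fun x y hx hy => by rw [hx, hy, add_zero]
  exact smul_eq_zero_of_tmul_eq_zero hsq hj (Subsingleton.elim _ _)

theorem mem_range_of_rTensor_eq_zero {z : A' ⊗[B'] L}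
    (hz : (IsScalarTower.toAlgHom B' A' A).toLinearMap.rTensor L z = 0) :
    ∃ l ∈ J • (⊤ : Submodule B' L), (1 : A') ⊗ₜ[B'] l = z := by
  let f := (IsScalarTower.toAlgHom B' A' A).toLinearMap
  have hsurj : Function.Surjective f := hsq.1
  obtain ⟨w, rfl⟩ := (rTensor_exact L (LinearMap.exact_subtype_ker_map f) hsurj z).1 hz
  induction w using TensorProduct.induction_on with
  | zero => exact ⟨0, zero_mem _, by simp⟩
  | tmul i x =>
    obtain ⟨j, hj, hji⟩ := exists_lift_ker hsq (i := (i : A')) i.2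
    refine ⟨j • x, Submodule.smul_mem_smul hj Submodule.mem_top, ?_⟩
    rw [LinearMap.rTensor_tmul, ← smul_tmul, Algebra.smul_def, mul_one, hji]
    rfl
  | add x y hx hy =>
    obtain ⟨a, ha, ha'⟩ := hx (by
      rw [← LinearMap.comp_apply, ← LinearMap.rTensor_comp, LinearMap.comp_ker_subtype,
        LinearMap.rTensor_zero, LinearMap.zero_apply])
    obtain ⟨b, hb, hb'⟩ := hy (by
      rw [← LinearMap.comp_apply, ← LinearMap.rTensor_comp, LinearMap.comp_ker_subtype,
        LinearMap.rTensor_zero, LinearMap.zero_apply])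
    exact ⟨a + b, add_mem ha hb, by rw [tmul_add, ha', hb', map_add]⟩

theorem pair_surjective (x : B ⊗[B'] L) (y : A' ⊗[B'] L)
    (hxy : (IsScalarTower.toAlgHom B' B A).toLinearMap.rTensor L x =
      (IsScalarTower.toAlgHom B' A' A).toLinearMap.rTensor L y) :
    ∃ l : L, (1 : B) ⊗ₜ[B'] l = x ∧ (1 : A') ⊗ₜ[B'] l = y := by
  obtain ⟨l, rfl⟩ := mk_surjective hsq x
  have h : (IsScalarTower.toAlgHom B' A' A).toLinearMap.rTensor L (y - (1 : A') ⊗ₜ[B'] l) = 0 := by
    rw [map_sub, ← hxy, LinearMap.rTensor_tmul, LinearMap.rTensor_tmul]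
    simp
  obtain ⟨d, hd, hd'⟩ := mem_range_of_rTensor_eq_zero hsq h
  refine ⟨l + d, ?_, by rw [tmul_add, hd']; abel⟩
  rw [tmul_add, (tmul_eq_zero_iff hsq).2 hd, add_zero]

theorem pair_injective_of_flat [Module.Flat B' L] {l : L}
    (h1 : ((1 : B) ⊗ₜ[B'] l : B ⊗[B'] L) = 0) (h2 : ((1 : A') ⊗ₜ[B'] l : A' ⊗[B'] L) = 0) : l = 0 := by
  let d : B' →ₗ[B'] B × A' := (Algebra.linearMap B' B).prod (Algebra.linearMap B' A')
  have hd : Function.Injective d := fun x y h =>
    eq_of_images hsq (congrArg Prod.fst h) (congrArg Prod.snd h)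
  have hinj := Module.Flat.rTensor_preserves_injective_linearMap (M := L) d hd
  have : d.rTensor L ((1 : B') ⊗ₜ l) = 0 := by
    apply (TensorProduct.prodLeft B' B' B A' L).injective
    simp [d, h1, h2]
  have := hinj (this.trans (map_zero _).symm)
  simpa using congrArg (TensorProduct.lid B' L) this

theorem finite_of_pair [Module.Finite B (B ⊗[B'] L)] [Module.Finite A' (A' ⊗[B'] L)] :
    Module.Finite B' L := by
  classical
  have key : ∀ (S : Type u) [CommRing S] [Algebra B' S], Module.Finite S (S ⊗[B'] L) →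
      ∃ s : Finset L, Submodule.span S ((fun l => (1 : S) ⊗ₜ[B'] l) '' (s : Set L)) = ⊤ := by
    intro S _ _ hfin
    obtain ⟨t, ht⟩ := hfin.fg_top
    have htop : Submodule.span S (Set.range fun l : L => (1 : S) ⊗ₜ[B'] l) = ⊤ := by
      rw [eq_top_iff]
      intro z _
      induction z using TensorProduct.induction_on with
      | zero => exact zero_mem _
      | tmul c l =>
        rw [show c ⊗ₜ[B'] l = c • ((1 : S) ⊗ₜ[B'] l) from by rw [smul_tmul', smul_eq_mul, mul_one]]
        exact Submodule.smul_mem _ _ (Submodule.subset_span ⟨l, rfl⟩)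
      | add x y hx hy => exact add_mem (hx trivial) (hy trivial)
    have hfg : ∀ x ∈ t, ∃ s : Finset L, x ∈ Submodule.span S ((fun l => (1 : S) ⊗ₜ[B'] l) '' (s : Set L)) := by
      intro x _
      have hx : x ∈ Submodule.span S (Set.range fun l : L => (1 : S) ⊗ₜ[B'] l) := by rw [htop]; trivial
      obtain ⟨T, hT, hxT⟩ := Submodule.mem_span_finite_of_mem_span hx
      rw [← Set.image_univ] at hT
      obtain ⟨s, -, rfl⟩ := Finset.subset_set_image_iff.1 hT
      exact ⟨s, by rwa [Finset.coe_image] at hxT⟩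
    choose s hs using hfg
    refine ⟨t.attach.biUnion fun x => s x.1 x.2, eq_top_iff.2 (ht ▸ Submodule.span_le.2 fun x hx => ?_)⟩
    refine Submodule.span_mono (Set.image_mono ?_) (hs x hx)
    intro l hl
    simp only [Finset.coe_biUnion, Set.mem_iUnion]
    exact ⟨⟨x, hx⟩, Finset.mem_attach _ _, hl⟩
  obtain ⟨s₁, h₁⟩ := key B inferInstance
  obtain ⟨s₂, h₂⟩ := key A' inferInstance
  let N := Submodule.span B' ((s₁ ∪ s₂ : Finset L) : Set L)
  have hQ : ∀ (S : Type u) [CommRing S] [Algebra B' S] (s : Finset L), (s : Set L) ⊆ N →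
      Submodule.span S ((fun l => (1 : S) ⊗ₜ[B'] l) '' (s : Set L)) = ⊤ → Subsingleton (S ⊗[B'] (L ⧸ N)) := by
    intro S _ _ s hs htop
    refine ⟨fun a b => ?_⟩
    suffices ∀ z : S ⊗[B'] (L ⧸ N), z = 0 by rw [this a, this b]
    intro z
    obtain ⟨w, rfl⟩ := LinearMap.lTensor_surjective S N.mkQ_surjective z
    have hw : w ∈ Submodule.span S ((fun l => (1 : S) ⊗ₜ[B'] l) '' (s : Set L)) := by rw [htop]; trivial
    show N.mkQ.baseChange S w = 0
    induction hw using Submodule.span_induction with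
    | mem x hx =>
      obtain ⟨l, hl, rfl⟩ := hx
      rw [LinearMap.baseChange_tmul, Submodule.mkQ_apply, (Submodule.Quotient.mk_eq_zero _).2 (hs hl), tmul_zero]
    | zero => simp
    | add x y _ _ hx hy => rw [map_add, hx, hy, add_zero]
    | smul c x _ hx => rw [map_smul, hx, smul_zero]
  haveI := hQ B s₁ (fun l hl => Submodule.subset_span (by simp [Finset.mem_coe.1 hl])) h₁
  haveI := hQ A' s₂ (fun l hl => Submodule.subset_span (by simp [Finset.mem_coe.1 hl])) h₂
  have := subsingleton_of_pair hsq (L := L ⧸ N)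
  exact ⟨⟨s₁ ∪ s₂, Submodule.Quotient.subsingleton_iff.1 this⟩⟩

end Module

theorem isPushout : Algebra.IsPushout B' B A' A := by
  haveI : Algebra.IsPushout B' A' B A := by
    refine ⟨?_⟩
    refine IsBaseChange.of_equiv (LinearEquiv.ofBijective
      ((IsScalarTower.toAlgHom B' B A).toLinearMap.liftBaseChange A') ⟨?_, ?_⟩) fun x => by simp
    · refine (injective_iff_map_eq_zero _).2 fun z hz => ?_
      obtain ⟨a, rfl⟩ : ∃ a : A', a ⊗ₜ[B'] (1 : B) = z := by
        induction z using TensorProduct.induction_on with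
        | zero => exact ⟨0, zero_tmul _ _⟩
        | tmul a b =>
          obtain ⟨c, rfl⟩ := exists_smul_one hsq b
          exact ⟨c • a, by rw [smul_tmul]⟩
        | add x y hx hy =>
          have h0 : ∀ w : A' ⊗[B'] B, ∃ a, a ⊗ₜ[B'] (1 : B) = w := fun w => by
            induction w using TensorProduct.induction_on with
            | zero => exact ⟨0, zero_tmul _ _⟩
            | tmul a b =>
              obtain ⟨c, rfl⟩ := exists_smul_one hsq b
              exact ⟨c • a, by rw [smul_tmul]⟩
            | add x y hx hy =>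
              obtain ⟨a, rfl⟩ := hx; obtain ⟨a', rfl⟩ := hy
              exact ⟨a + a', add_tmul _ _ _⟩
          exact h0 _
      have ha : a ∈ I := by
        simpa [Algebra.smul_def] using hz
      obtain ⟨j, hj, rfl⟩ := exists_lift_ker hsq ha
      rw [Algebra.algebraMap_eq_smul_one, smul_tmul, Algebra.smul_def, RingHom.mem_ker.1 hj,
        zero_mul, tmul_zero]
    · intro x
      obtain ⟨a, rfl⟩ := hsq.1 x
      exact ⟨a ⊗ₜ 1, by simp [Algebra.smul_def]⟩
  exact Algebra.IsPushout.symm inferInstance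

end Groth.Agent.MilnorLib
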