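import Groth.Agent.MilnorLib.Glue

/-!
# Flatness, finite presentation and projectivity are tested on the two sides of a Milnor square
-/

set_option autoImplicit false

open TensorProduct

namespace Groth.Agent.MilnorLib

universe u

variable {B' B A' A : Type u} [CommRing B'] [CommRing B] [CommRing A'] [CommRing A]
  [Algebra B' B] [Algebra B' A'] [Algebra B A] [Algebra A' A] [Algebra B' A]
  [IsScalarTower B' B A] [IsScalarTower B' A' A]
variable (hsq : EtMil.IsFibreSquare B' B A' A)
variable (L : Type u) [AddCommGroup L] [Module B' L]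

/-- base changes of a module form gluing data -/
noncomputable def canPhi : A ⊗[B] (B ⊗[B'] L) ≃ₗ[A] A ⊗[A'] (A' ⊗[B'] L) :=
  AlgebraTensorModule.cancelBaseChange B' B A A L ≪≫ₗ
    (AlgebraTensorModule.cancelBaseChange B' A' A A L).symm

theorem canPhi_apply (l : L) :
    canPhi (B' := B') (A := A) (A' := A') (B := B) L ((1 : A) ⊗ₜ[B] ((1 : B) ⊗ₜ[B'] l)) = (1 : A) ⊗ₜ[A'] ((1 : A') ⊗ₜ[B'] l) := by
  simp [canPhi]

/-- a module maps to the glueing of its base changes -/
noncomputable def toGlue : L →ₗ[B'] EtMil.glue B' (canPhi (B' := B') (A := A) (A' := A') (B := B) L) :=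
  LinearMap.codRestrict _ ((TensorProduct.mk B' B L 1).prod (TensorProduct.mk B' A' L 1))
    fun l => canPhi_apply L l

theorem toGlue_surjective (hsq : EtMil.IsFibreSquare B' B A' A) :
    Function.Surjective (toGlue (A := A) (A' := A') (B := B) (B' := B') L) := by
  rintro ⟨⟨x, y⟩, hxy⟩
  have key : ∀ w : B ⊗[B'] L, AlgebraTensorModule.cancelBaseChange B' B A A L ((1 : A) ⊗ₜ[B] w) =
      (IsScalarTower.toAlgHom B' B A).toLinearMap.rTensor L w := fun w => by
    induction w using TensorProduct.induction_on with
    | zero => simp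
    | tmul b l => simp [Algebra.smul_def]
    | add p q hp hq => simp only [tmul_add, map_add, hp, hq]
  have key' : ∀ w : A' ⊗[B'] L, AlgebraTensorModule.cancelBaseChange B' A' A A L ((1 : A) ⊗ₜ[A'] w) =
      (IsScalarTower.toAlgHom B' A' A).toLinearMap.rTensor L w := fun w => by
    induction w using TensorProduct.induction_on with
    | zero => simp
    | tmul b l => simp [Algebra.smul_def]
    | add p q hp hq => simp only [tmul_add, map_add, hp, hq]
  have h := congrArg (AlgebraTensorModule.cancelBaseChange B' A' A A L) (show canPhi (B' := B') L ((1 : A) ⊗ₜ[B] x) = (1 : A) ⊗ₜ[A'] y from hxy)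
  rw [canPhi, LinearEquiv.trans_apply, LinearEquiv.apply_symm_apply, key, key'] at h
  obtain ⟨l, h1, h2⟩ := pair_surjective hsq x y h
  exact ⟨l, Subtype.ext (Prod.ext h1 h2)⟩

omit [CommRing A] in
theorem subsingleton_tensor_ker {R : Type u} [CommRing R] {M Q : Type u} [AddCommGroup M] [Module R M]
    [AddCommGroup Q] [Module R Q] [Module.Flat R Q] (q : M →ₗ[R] Q) (hq : Function.Surjective q)
    (S : Type u) [CommRing S] [Algebra R S] (h : Function.Injective (q.baseChange S)) :
    Subsingleton (S ⊗[R] LinearMap.ker q) := by
  refine ⟨fun a b => ?_⟩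
  have hinj := LinearMap.lTensor_injective_of_exact_of_flat q hq (LinearMap.ker q).subtype
    (LinearMap.ker q).subtype_injective (LinearMap.exact_subtype_ker_map q) S
  apply hinj
  apply h
  show q.lTensor S _ = q.lTensor S _
  rw [← LinearMap.comp_apply, ← LinearMap.comp_apply, ← LinearMap.lTensor_comp,
    LinearMap.comp_ker_subtype, LinearMap.lTensor_zero]
  rfl

include hsq in
theorem flat_of_map_to_glue {N M' : Type u} [AddCommGroup N] [Module B N] [Module B' N] [IsScalarTower B' B N]
    [AddCommGroup M'] [Module A' M'] [Module B' M'] [IsScalarTower B' A' M']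
    [Module.Flat B N] [Module.Flat A' M']
    (φ : A ⊗[B] N ≃ₗ[A] A ⊗[A'] M') (q : L →ₗ[B'] EtMil.glue B' φ) (hq : Function.Surjective q)
    (hB : Function.Injective (q.baseChange B)) (hA : Function.Injective (q.baseChange A')) :
    Module.Flat B' L := by
  haveI := flat_glue hsq φ
  haveI := subsingleton_tensor_ker q hq B hB
  haveI := subsingleton_tensor_ker q hq A' hA
  haveI hsub := subsingleton_of_pair hsq (L := LinearMap.ker q)
  have hinj : Function.Injective q := LinearMap.ker_eq_bot.1 (Submodule.eq_bot_of_subsingleton)
  exact Module.Flat.of_linearEquiv (LinearEquiv.ofBijective q ⟨hinj, hq⟩)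

theorem toGlue_fst (l : L) :
    EtMil.glueFst B' (canPhi (B' := B') (A := A) (A' := A') (B := B) L) (toGlue L l) = (1 : B) ⊗ₜ[B'] l := rfl

theorem toGlue_snd (l : L) :
    EtMil.glueSnd B' (canPhi (B' := B') (A := A) (A' := A') (B := B) L) (toGlue L l) = (1 : A') ⊗ₜ[B'] l := rfl

theorem toGlue_baseChange_injective_fst :
    Function.Injective ((toGlue (A := A) (A' := A') (B := B) (B' := B') L).baseChange B) := by
  refine Function.LeftInverse.injective
    (g := (EtMil.glueFst B' (canPhi (B' := B') (A := A) (A' := A') (B := B) L)).liftBaseChange B) fun z => ?_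
  induction z using TensorProduct.induction_on with
  | zero => rw [map_zero, map_zero]
  | tmul b l =>
    rw [LinearMap.baseChange_tmul, LinearMap.liftBaseChange_tmul, toGlue_fst, smul_tmul', smul_eq_mul, mul_one]
  | add x y hx hy => rw [map_add, map_add, hx, hy]

theorem toGlue_baseChange_injective_snd :
    Function.Injective ((toGlue (A := A) (A' := A') (B := B) (B' := B') L).baseChange A') := by
  refine Function.LeftInverse.injective
    (g := (EtMil.glueSnd B' (canPhi (B' := B') (A := A) (A' := A') (B := B) L)).liftBaseChange A') fun z => ?_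
  induction z using TensorProduct.induction_on with
  | zero => rw [map_zero, map_zero]
  | tmul b l =>
    rw [LinearMap.baseChange_tmul, LinearMap.liftBaseChange_tmul, toGlue_snd, smul_tmul', smul_eq_mul, mul_one]
  | add x y hx hy => rw [map_add, map_add, hx, hy]

include hsq in
theorem flat_of_pair [Module.Flat B (B ⊗[B'] L)] [Module.Flat A' (A' ⊗[B'] L)] : Module.Flat B' L :=
  flat_of_map_to_glue hsq L (canPhi (B' := B') (A := A) (A' := A') (B := B) L)
    (toGlue (A := A) (A' := A') (B := B) (B' := B') L) (toGlue_surjective L hsq)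
    (toGlue_baseChange_injective_fst L) (toGlue_baseChange_injective_snd L)

include hsq in
theorem finitePresentation_of_pair [Module.Flat B (B ⊗[B'] L)] [Module.FinitePresentation B (B ⊗[B'] L)]
    [Module.Flat A' (A' ⊗[B'] L)] [Module.FinitePresentation A' (A' ⊗[B'] L)] :
    Module.FinitePresentation B' L := by
  haveI := flat_of_pair hsq L
  haveI := finite_of_pair hsq (L := L)
  obtain ⟨n, p, hp⟩ := Module.Finite.exists_fin' B' L
  have hfin : ∀ (S : Type u) [CommRing S] [Algebra B' S], Module.FinitePresentation S (S ⊗[B'] L) →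
      Module.Finite S (S ⊗[B'] LinearMap.ker p) := by
    intro S _ _ hfp
    have hinj : Function.Injective ((LinearMap.ker p).subtype.baseChange S) :=
      LinearMap.lTensor_injective_of_exact_of_flat p hp (LinearMap.ker p).subtype
        (LinearMap.ker p).subtype_injective (LinearMap.exact_subtype_ker_map p) S
    have hex : Function.Exact ((LinearMap.ker p).subtype.baseChange S) (p.baseChange S) :=
      lTensor_exact S (LinearMap.exact_subtype_ker_map p) hp
    have hfg : (LinearMap.ker (p.baseChange S)).FG :=
      Module.FinitePresentation.fg_ker (p.baseChange S) (LinearMap.lTensor_surjective S hp)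
    rw [hex.linearMap_ker_eq] at hfg
    haveI := Module.Finite.iff_fg.2 hfg
    exact Module.Finite.equiv (LinearEquiv.ofInjective _ hinj).symm
  haveI := hfin B inferInstance
  haveI := hfin A' inferInstance
  haveI := finite_of_pair hsq (L := LinearMap.ker p)
  exact Module.finitePresentation_of_surjective p hp (Module.Finite.iff_fg.1 inferInstance)

include hsq in
theorem projective_of_pair [Module.Finite B (B ⊗[B'] L)] [Module.Projective B (B ⊗[B'] L)]
    [Module.Finite A' (A' ⊗[B'] L)] [Module.Projective A' (A' ⊗[B'] L)] :
    Module.Finite B' L ∧ Module.Projective B' L := by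
  haveI := Module.finitePresentation_of_projective B (B ⊗[B'] L)
  haveI := Module.finitePresentation_of_projective A' (A' ⊗[B'] L)
  haveI := flat_of_pair hsq L
  haveI := finitePresentation_of_pair hsq L
  exact ⟨inferInstance, Module.Flat.projective_of_finitePresentation⟩

include hsq in
/-- every maximal ideal lies under a prime of one of the two rings -/
theorem exists_prime_over (m : Ideal B') [hm : m.IsMaximal] :
    (∃ q : PrimeSpectrum B, q.asIdeal.comap (algebraMap B' B) = m) ∨
      ∃ q : PrimeSpectrum A', q.asIdeal.comap (algebraMap B' A') = m := by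
  by_cases hJ : RingHom.ker (algebraMap B' B) ≤ m
  · have hs := surjective_algebraMap hsq
    refine Or.inl ⟨⟨m.map (algebraMap B' B), Ideal.map_isPrime_of_surjective hs hJ⟩, ?_⟩
    show (m.map (algebraMap B' B)).comap (algebraMap B' B) = m
    rw [Ideal.comap_map_of_surjective' _ hs, sup_eq_left.2 hJ]
  · right
    obtain ⟨j, hj, hjm⟩ := SetLike.not_le_iff_exists.1 hJ
    have hne : m.map (algebraMap B' A') ≠ ⊤ := by
      intro htop
      have h1 : (1 : A') ∈ m.map (algebraMap B' A') := by rw [htop]; trivial
      have key : ∀ y ∈ m.map (algebraMap B' A'), ∀ z : A', mu hsq j hj (y * z) ∈ m := by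
        intro y hy
        induction hy using Submodule.span_induction with
        | mem x hx =>
          intro z
          obtain ⟨c, hc, rfl⟩ := hx
          rw [← Algebra.smul_def, map_smul, smul_eq_mul]
          exact m.mul_mem_right _ hc
        | zero => intro z; simp
        | add p q _ _ hp hq => intro z; rw [add_mul, map_add]; exact m.add_mem (hp z) (hq z)
        | smul r p _ hp =>
          intro z
          rw [smul_eq_mul, mul_comm r, mul_assoc]
          exact hp (r * z)
      have := key 1 h1 1
      rw [mul_one, mu_one] at this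
      exact hjm this
    obtain ⟨Q, hQ, hle⟩ := Ideal.exists_le_maximal _ hne
    refine ⟨⟨Q, hQ.isPrime⟩, (hm.eq_of_le ?_ (Ideal.map_le_iff_le_comap.1 hle)).symm⟩
    exact (Ideal.comap_isPrime _ _).ne_top

omit [CommRing A] in
theorem flat_of_exact {R : Type u} [CommRing R] {M N Q : Type u} [AddCommGroup M] [Module R M]
    [AddCommGroup N] [Module R N] [AddCommGroup Q] [Module R Q] [Module.Flat R N] [Module.Flat R Q]
    (g : M →ₗ[R] N) (f : N →ₗ[R] Q) (hf : Function.Surjective f) (hg : Function.Injective g)
    (H : Function.Exact g f) : Module.Flat R M := by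
  rw [Module.Flat.iff_rTensor_preserves_injective_linearMap]
  intro X Y _ _ _ _ h hh a b hab
  refine (LinearMap.lTensor_injective_of_exact_of_flat f hf g hg H X) ?_
  apply Module.Flat.rTensor_preserves_injective_linearMap (M := N) h hh
  rw [← LinearMap.comp_apply, ← LinearMap.comp_apply, LinearMap.rTensor_comp_lTensor,
    ← LinearMap.lTensor_comp_rTensor, LinearMap.comp_apply, LinearMap.comp_apply, hab]

omit [CommRing A] in
theorem flat_prod {R : Type u} [CommRing R] (P Q : Type u) [AddCommGroup P] [AddCommGroup Q]
    [Module R P] [Module R Q] [Module.Flat R P] [Module.Flat R Q] : Module.Flat R (P × Q) := by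
  rw [Module.Flat.iff_lTensor_preserves_injective_linearMap]
  intro N N' _ _ _ _ f hf
  rw [injective_iff_map_eq_zero]
  intro z hz
  have h1 : LinearMap.rTensor N (LinearMap.fst R P Q) z = 0 := by
    refine Module.Flat.lTensor_preserves_injective_linearMap (M := P) f hf ?_
    rw [map_zero, ← LinearMap.comp_apply, LinearMap.lTensor_comp_rTensor,
      ← LinearMap.rTensor_comp_lTensor, LinearMap.comp_apply, hz, map_zero]
  have h2 : LinearMap.rTensor N (LinearMap.snd R P Q) z = 0 := by
    refine Module.Flat.lTensor_preserves_injective_linearMap (M := Q) f hf ?_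
    rw [map_zero, ← LinearMap.comp_apply, LinearMap.lTensor_comp_rTensor,
      ← LinearMap.rTensor_comp_lTensor, LinearMap.comp_apply, hz, map_zero]
  have : LinearMap.rTensor N (LinearMap.inl R P Q ∘ₗ LinearMap.fst R P Q +
      LinearMap.inr R P Q ∘ₗ LinearMap.snd R P Q) z = z := by
    rw [show LinearMap.inl R P Q ∘ₗ LinearMap.fst R P Q +
      LinearMap.inr R P Q ∘ₗ LinearMap.snd R P Q = LinearMap.id by ext <;> simp]
    simp
  rw [← this, LinearMap.rTensor_add, LinearMap.add_apply, LinearMap.rTensor_comp,
    LinearMap.rTensor_comp, LinearMap.comp_apply, LinearMap.comp_apply, h1, h2, map_zero, map_zero,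
    add_zero]

end Groth.Agent.MilnorLib
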