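import Groth.Agent.MilnorLib.Basic

/-!
# Glued modules over a Milnor square: base change, flatness, projectivity
-/

set_option autoImplicit false

open TensorProduct

namespace Groth.Agent.MilnorLib

universe u

variable {B' B A' A : Type u} [CommRing B'] [CommRing B] [CommRing A'] [CommRing A]
  [Algebra B' B] [Algebra B' A'] [Algebra B A] [Algebra A' A] [Algebra B' A]
  [IsScalarTower B' B A] [IsScalarTower B' A' A]
variable (hsq : EtMil.IsFibreSquare B' B A' A)
variable {N M' : Type u} [AddCommGroup N] [Module B N] [Module B' N] [IsScalarTower B' B N]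
  [AddCommGroup M'] [Module A' M'] [Module B' M'] [IsScalarTower B' A' M']
  (φ : A ⊗[B] N ≃ₗ[A] A ⊗[A'] M')

local notation "J" => RingHom.ker (algebraMap B' B)
local notation "I" => RingHom.ker (algebraMap A' A)

section Partner

include hsq

omit [Module B' M'] [IsScalarTower B' A' M'] [Module B' N] [IsScalarTower B' B N] in
theorem exists_tmul (z : A ⊗[A'] M') : ∃ m : M', (1 : A) ⊗ₜ[A'] m = z :=
  TensorProduct.mk_surjective A' M' A hsq.1 z

theorem exists_partner (n : N) : ∃ p : ↥(EtMil.glue B' φ), (EtMil.glueFst B' φ) p = n := by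
  obtain ⟨m, hm⟩ := exists_tmul hsq (φ ((1 : A) ⊗ₜ[B] n))
  exact ⟨⟨(n, m), hm.symm⟩, rfl⟩

omit [Module B' M'] [IsScalarTower B' A' M'] [Module B' N] [IsScalarTower B' B N] in
theorem tmul_eq_zero_iff_snd {m : M'} :
    ((1 : A) ⊗ₜ[A'] m : A ⊗[A'] M') = 0 ↔ m ∈ I • (⊤ : Submodule A' M') := by
  constructor
  · intro h
    let f := Algebra.linearMap A' A
    obtain ⟨w, hw⟩ := (rTensor_exact M' (LinearMap.exact_subtype_ker_map f) hsq.1 ((1 : A') ⊗ₜ[A'] m)).1
      (by rw [LinearMap.rTensor_tmul]; simpa [f] using h)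
    have key : ∀ w : LinearMap.ker f ⊗[A'] M',
        TensorProduct.lid A' M' ((LinearMap.ker f).subtype.rTensor M' w) ∈ I • (⊤ : Submodule A' M') := by
      intro w
      induction w using TensorProduct.induction_on with
      | zero => simp
      | tmul i x =>
        rw [LinearMap.rTensor_tmul, TensorProduct.lid_tmul]
        exact Submodule.smul_mem_smul i.2 Submodule.mem_top
      | add x y hx hy => rw [map_add, map_add]; exact add_mem hx hy
    simpa [hw] using key w
  · intro h
    refine Submodule.smul_induction_on h (fun i hi x _ => ?_) fun x y hx hy => by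
      rw [tmul_add, hx, hy, add_zero]
    rw [← smul_tmul, Algebra.smul_def, RingHom.mem_ker.1 hi, zero_mul, zero_tmul]

/-- the vector `(0, m)` for `m ∈ I M'` -/
noncomputable def sigma (m : M') (hm : m ∈ I • (⊤ : Submodule A' M')) : ↥(EtMil.glue B' φ) :=
  ⟨(0, m), show φ ((1 : A) ⊗ₜ[B] (0 : N)) = (1 : A) ⊗ₜ[A'] m by
    rw [tmul_zero, map_zero, (tmul_eq_zero_iff_snd hsq).2 hm]⟩

theorem span_snd : Submodule.span A' (Set.range (EtMil.glueSnd B' φ)) = ⊤ := by
  rw [eq_top_iff]
  intro m _
  have key : ∀ z : A ⊗[B] N, ∃ m' ∈ Submodule.span A' (Set.range (EtMil.glueSnd B' φ)), φ z = (1 : A) ⊗ₜ[A'] m' := by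
    intro z
    induction z using TensorProduct.induction_on with
    | zero => exact ⟨0, zero_mem _, by simp⟩
    | tmul a n =>
      obtain ⟨a', rfl⟩ := hsq.1 a
      obtain ⟨p, hp⟩ := exists_partner hsq φ n
      refine ⟨a' • (EtMil.glueSnd B' φ) p, Submodule.smul_mem _ _ (Submodule.subset_span ⟨p, rfl⟩), ?_⟩
      have h : φ ((1 : A) ⊗ₜ[B] (EtMil.glueFst B' φ) p) = (1 : A) ⊗ₜ[A'] (EtMil.glueSnd B' φ) p := p.2
      rw [show algebraMap A' A a' ⊗ₜ[B] n = algebraMap A' A a' • ((1 : A) ⊗ₜ[B] n) from by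
        rw [smul_tmul', smul_eq_mul, mul_one], ← hp, map_smul, h, tmul_smul, algebraMap_smul]
    | add x y hx hy =>
      obtain ⟨a, ha, ha'⟩ := hx
      obtain ⟨b, hb, hb'⟩ := hy
      exact ⟨a + b, add_mem ha hb, by rw [map_add, ha', hb', tmul_add]⟩
  obtain ⟨m', hm', h⟩ := key (φ.symm ((1 : A) ⊗ₜ[A'] m))
  rw [φ.apply_symm_apply] at h
  have hd : m - m' ∈ I • (⊤ : Submodule A' M') :=
    (tmul_eq_zero_iff_snd hsq).1 (by rw [tmul_sub, h, sub_self])
  have := add_mem hm' (Submodule.subset_span (R := A') ⟨sigma hsq φ _ hd, rfl⟩)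
  rw [show (EtMil.glueSnd B' φ) (sigma hsq φ _ hd) = m - m' from rfl, add_sub_cancel] at this
  exact this

theorem mem_smul_of_snd {m : M'} (hm : m ∈ I • (⊤ : Submodule A' M')) :
    ∃ p ∈ J • (⊤ : Submodule B' ↥(EtMil.glue B' φ)), (EtMil.glueFst B' φ) p = 0 ∧ (EtMil.glueSnd B' φ) p = m := by
  refine Submodule.smul_induction_on hm (fun i hi x _ => ?_) fun x y hx hy => ?_
  · have hx : x ∈ Submodule.span A' (Set.range (EtMil.glueSnd B' φ)) := by rw [span_snd hsq φ]; trivial
    clear hm
    induction hx using Submodule.span_induction generalizing i with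
    | mem x hx =>
      obtain ⟨p, rfl⟩ := hx
      obtain ⟨j, hj, rfl⟩ := exists_lift_ker hsq hi
      refine ⟨j • p, Submodule.smul_mem_smul hj Submodule.mem_top, ?_, ?_⟩
      · rw [map_smul, ← algebraMap_smul B j, RingHom.mem_ker.1 hj, zero_smul]
      · rw [map_smul, algebraMap_smul]
    | zero => exact ⟨0, zero_mem _, map_zero _, by simp⟩
    | add a b _ _ ha hb =>
      obtain ⟨p, h1, h2, h3⟩ := ha i hi Submodule.mem_top
      obtain ⟨q, k1, k2, k3⟩ := hb i hi Submodule.mem_top
      exact ⟨p + q, add_mem h1 k1, by rw [map_add, h2, k2, add_zero], by rw [map_add, h3, k3, smul_add]⟩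
    | smul a x _ hx =>
      obtain ⟨p, h1, h2, h3⟩ := hx (i * a) (Ideal.mul_mem_right a _ hi) Submodule.mem_top
      exact ⟨p, h1, h2, by rw [h3, mul_smul]⟩
  · obtain ⟨p, h1, h2, h3⟩ := hx
    obtain ⟨q, k1, k2, k3⟩ := hy
    exact ⟨p + q, add_mem h1 k1, by rw [map_add, h2, k2, add_zero], by rw [map_add, h3, k3]⟩

omit hsq in
theorem ext_glue {p q : ↥(EtMil.glue B' φ)} (h1 : (EtMil.glueFst B' φ) p = (EtMil.glueFst B' φ) q) (h2 : (EtMil.glueSnd B' φ) p = (EtMil.glueSnd B' φ) q) : p = q :=
  Subtype.ext (Prod.ext h1 h2)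

theorem mem_smul_iff {p : ↥(EtMil.glue B' φ)} : p ∈ J • (⊤ : Submodule B' ↥(EtMil.glue B' φ)) ↔ (EtMil.glueFst B' φ) p = 0 := by
  constructor
  · intro h
    refine Submodule.smul_induction_on h (fun j hj x _ => ?_) fun x y hx hy => by
      rw [map_add, hx, hy, add_zero]
    rw [map_smul, ← algebraMap_smul B j, RingHom.mem_ker.1 hj, zero_smul]
  · intro h
    have h' : φ ((1 : A) ⊗ₜ[B] (EtMil.glueFst B' φ) p) = (1 : A) ⊗ₜ[A'] (EtMil.glueSnd B' φ) p := p.2
    rw [h, tmul_zero, map_zero] at h'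
    obtain ⟨q, hq, h1, h2⟩ := mem_smul_of_snd hsq φ ((tmul_eq_zero_iff_snd hsq).1 h'.symm)
    rwa [ext_glue φ (h.trans h1.symm) h2.symm]

theorem bijective_fst : Function.Bijective ((EtMil.glueFst B' φ).liftBaseChange B) := by
  refine ⟨(injective_iff_map_eq_zero _).2 fun z hz => ?_, fun n => ?_⟩
  · obtain ⟨p, rfl⟩ := mk_surjective hsq z
    rw [LinearMap.liftBaseChange_tmul, one_smul] at hz
    exact (tmul_eq_zero_iff hsq).2 ((mem_smul_iff hsq φ).2 hz)
  · obtain ⟨p, rfl⟩ := exists_partner hsq φ n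
    exact ⟨(1 : B) ⊗ₜ p, by simp⟩

theorem bijective_snd : Function.Bijective ((EtMil.glueSnd B' φ).liftBaseChange A') := by
  refine ⟨(injective_iff_map_eq_zero _).2 fun z hz => ?_, ?_⟩
  · let c := AlgebraTensorModule.cancelBaseChange B' B A A ↥(EtMil.glue B' φ)
    let E : A ⊗[B'] ↥(EtMil.glue B' φ) ≃ₗ[A] A ⊗[A'] M' :=
      c.symm ≪≫ₗ (AlgebraTensorModule.congr (LinearEquiv.refl A A)
        (LinearEquiv.ofBijective _ (bijective_fst hsq φ))) ≪≫ₗ φ
    have hEtmul : ∀ (a : A) (p : ↥(EtMil.glue B' φ)), E (a ⊗ₜ[B'] p) = a • ((1 : A) ⊗ₜ[A'] (EtMil.glueSnd B' φ) p) := by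
      intro a p
      show φ (a ⊗ₜ[B] ((1 : B) • (EtMil.glueFst B' φ) p)) = _
      rw [one_smul, show a ⊗ₜ[B] (EtMil.glueFst B' φ) p = a • ((1 : A) ⊗ₜ[B] (EtMil.glueFst B' φ) p) from by
        rw [smul_tmul', smul_eq_mul, mul_one], map_smul]
      exact congrArg (a • ·) p.2
    have h0 : (IsScalarTower.toAlgHom B' A' A).toLinearMap.rTensor ↥(EtMil.glue B' φ) z = 0 := by
      apply E.injective
      rw [map_zero]
      have key : E ((IsScalarTower.toAlgHom B' A' A).toLinearMap.rTensor ↥(EtMil.glue B' φ) z) =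
          (1 : A) ⊗ₜ[A'] ((EtMil.glueSnd B' φ).liftBaseChange A' z) := by
        clear hz
        induction z using TensorProduct.induction_on with
        | zero => simp
        | tmul a p =>
          rw [LinearMap.rTensor_tmul, hEtmul, LinearMap.liftBaseChange_tmul, tmul_smul]
          exact algebraMap_smul A a _
        | add x y hx hy => simp only [map_add, hx, hy, tmul_add]
      rw [key, hz, tmul_zero]
    obtain ⟨p, hp, rfl⟩ := mem_range_of_rTensor_eq_zero hsq h0
    rw [LinearMap.liftBaseChange_tmul, one_smul] at hz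
    rw [show p = 0 from ext_glue φ (by rw [(mem_smul_iff hsq φ).1 hp, map_zero]) (by rw [hz, map_zero]),
      tmul_zero]
  · rw [← LinearMap.range_eq_top, eq_top_iff, ← span_snd hsq φ, Submodule.span_le]
    rintro _ ⟨p, rfl⟩
    exact ⟨(1 : A') ⊗ₜ p, by simp⟩

theorem exists_fin_span (y : M') :
    ∃ (k : ℕ) (a : Fin k → A') (q : Fin k → ↥(EtMil.glue B' φ)), ∑ i, a i • (EtMil.glueSnd B' φ) (q i) = y := by
  have hy : y ∈ Submodule.span A' (Set.range (EtMil.glueSnd B' φ)) := by rw [span_snd hsq φ]; trivial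
  obtain ⟨c, hc⟩ := Finsupp.mem_span_range_iff_exists_finsupp.1 hy
  let e := c.support.equivFin
  refine ⟨_, fun i => c (e.symm i), fun i => (e.symm i : ↥(EtMil.glue B' φ)), ?_⟩
  rw [← hc, Finsupp.sum, ← Finset.sum_coe_sort c.support]
  exact Fintype.sum_equiv e.symm _ _ fun i => rfl

set_option maxHeartbeats 1600000 in
theorem flat_glue [Module.Flat B N] [Module.Flat A' M'] : Module.Flat B' ↥(EtMil.glue B' φ) := by
  classical
  rw [Module.Flat.iff_forall_isTrivialRelation]
  intro r f x hx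
  -- relations inside `J ↥(EtMil.glue B' φ)`
  have step2 : ∀ d : Fin r → ↥(EtMil.glue B' φ), (∀ i, (EtMil.glueFst B' φ) (d i) = 0) → (∑ i, f i • d i = 0) →
      ∃ (k : ℕ) (a : Fin r → Fin k → B') (y : Fin k → ↥(EtMil.glue B' φ)),
        (∀ i, d i = ∑ l, a i l • y l) ∧ ∀ l, ∑ i, f i * a i l = 0 := by
    intro d hd0 hd
    have hm : ∀ i, ∃ (k : ℕ) (j : Fin k → B') (_ : ∀ l, j l ∈ J) (w : Fin k → M'),
        (EtMil.glueSnd B' φ) (d i) = ∑ l, algebraMap B' A' (j l) • w l := by
      intro i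
      have hi : (EtMil.glueSnd B' φ) (d i) ∈ I • (⊤ : Submodule A' M') := by
        refine (tmul_eq_zero_iff_snd hsq).1 ?_
        have h' : φ ((1 : A) ⊗ₜ[B] (EtMil.glueFst B' φ) (d i)) = (1 : A) ⊗ₜ[A'] (EtMil.glueSnd B' φ) (d i) := (d i).2
        rw [hd0, tmul_zero, map_zero] at h'
        exact h'.symm
      refine Submodule.smul_induction_on hi (fun c hc z _ => ?_) fun x y hx hy => ?_
      · obtain ⟨j, hj, rfl⟩ := exists_lift_ker hsq hc
        exact ⟨1, fun _ => j, fun _ => hj, fun _ => z, by simp⟩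
      · obtain ⟨k, j, hj, w, rfl⟩ := hx
        obtain ⟨k', j', hj', w', rfl⟩ := hy
        refine ⟨k + k', Fin.append j j', fun l => Fin.addCases (fun l => by simpa using hj l)
          (fun l => by simpa using hj' l) l, Fin.append w w', ?_⟩
        rw [Fin.sum_univ_add]
        simp
    choose k j hj w hw using hm
    let σ := Σ i : Fin r, Fin (k i)
    let e := Fintype.equivFin σ
    let g : Fin (Fintype.card σ) → A' := fun l =>
      algebraMap B' A' (f (e.symm l).1 * j (e.symm l).1 (e.symm l).2)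
    let wv : Fin (Fintype.card σ) → M' := fun l => w (e.symm l).1 (e.symm l).2
    have hrel : ∑ l, g l • wv l = 0 := by
      rw [Fintype.sum_equiv e.symm _ (fun s => algebraMap B' A' (f s.1 * j s.1 s.2) • w s.1 s.2) fun l => rfl,
        Fintype.sum_sigma]
      have h := congrArg (EtMil.glueSnd B' φ) hd
      rw [map_sum, map_zero] at h
      rw [← h]
      refine Finset.sum_congr rfl fun i _ => ?_
      rw [map_smul, hw, Finset.smul_sum]
      refine Finset.sum_congr rfl fun l _ => ?_
      rw [map_mul, mul_smul, algebraMap_smul]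
    obtain ⟨m, a, z, hz, hga⟩ := (Module.Flat.iff_forall_isTrivialRelation.1 inferInstance) hrel
    choose kz az qz hqz using fun l : Fin m => exists_fin_span hsq φ (z l)
    let τ := Σ l : Fin m, Fin (kz l)
    let e' := Fintype.equivFin τ
    have hjJ : ∀ (i : Fin r) (l : Fin (k i)), j i l ∈ J := hj
    let coef : Fin r → τ → B' := fun i t =>
      ∑ l : Fin (k i), mu hsq (j i l) (hjJ i l) (a (e ⟨i, l⟩) t.1 * az t.1 t.2)
    refine ⟨Fintype.card τ, fun i l => coef i (e'.symm l), fun l => qz (e'.symm l).1 (e'.symm l).2,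
      fun i => ?_, fun l => ?_⟩
    · rw [Fintype.sum_equiv e'.symm _ (fun t => coef i t • qz t.1 t.2) fun l => rfl]
      refine ext_glue φ ?_ ?_
      · rw [hd0, map_sum, Finset.sum_eq_zero]
        intro t _
        rw [map_smul, ← algebraMap_smul B (coef i t), show algebraMap B' B (coef i t) = 0 from
          RingHom.mem_ker.1 (Ideal.sum_mem _ fun l _ => mu_mem hsq _ _ _), zero_smul]
      · rw [hw, map_sum, Fintype.sum_sigma]
        have hterm : ∀ l, algebraMap B' A' (j i l) • w i l =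
            ∑ t : Fin m, ∑ s, algebraMap B' A' (mu hsq (j i l) (hjJ i l) (a (e ⟨i, l⟩) t * az t s)) • (EtMil.glueSnd B' φ) (qz t s) := by
          intro l
          have := hz (e ⟨i, l⟩)
          simp only [wv] at this
          rw [Equiv.symm_apply_apply] at this
          rw [this, Finset.smul_sum]
          refine Finset.sum_congr rfl fun t _ => ?_
          rw [← hqz t, Finset.smul_sum, Finset.smul_sum]
          refine Finset.sum_congr rfl fun s _ => ?_
          rw [map_mu, smul_smul, smul_smul, mul_assoc]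
        rw [Finset.sum_congr rfl fun l _ => hterm l, Finset.sum_comm]
        refine Finset.sum_congr rfl fun t _ => ?_
        rw [Finset.sum_comm]
        refine Finset.sum_congr rfl fun s _ => ?_
        rw [map_smul, ← algebraMap_smul A' (coef i ⟨t, s⟩), map_sum, Finset.sum_smul]
    · refine ext_of_mem_ker hsq (Ideal.sum_mem _ fun i _ => Ideal.mul_mem_left _ _
        (Ideal.sum_mem _ fun s _ => mu_mem hsq _ _ _)) (zero_mem _) ?_
      rw [map_zero, map_sum]
      have h := congrArg (· * az (e'.symm l).1 (e'.symm l).2) (hga (e'.symm l).1)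
      simp only [zero_mul] at h
      rw [← h, Finset.sum_mul, Fintype.sum_equiv e.symm _
        (fun s : σ => algebraMap B' A' (f s.1 * j s.1 s.2) * a (e s) (e'.symm l).1 * az (e'.symm l).1 (e'.symm l).2)
        (fun q => by simp [g]), Fintype.sum_sigma]
      refine Finset.sum_congr rfl fun i _ => ?_
      rw [map_mul, map_sum, Finset.mul_sum]
      refine Finset.sum_congr rfl fun s _ => ?_
      rw [map_mu, map_mul]
      ring
  -- trivialisation modulo `J`
  have hN : ∑ i, algebraMap B' B (f i) • (EtMil.glueFst B' φ) (x i) = 0 := by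
    have h := congrArg (EtMil.glueFst B' φ) hx
    rw [map_sum, map_zero] at h
    rw [← h]
    exact Finset.sum_congr rfl fun i _ => by rw [map_smul, algebraMap_smul]
  obtain ⟨s, b, y, hy, hb⟩ := (Module.Flat.iff_forall_isTrivialRelation.1 inferInstance) hN
  choose β hβ using fun i l => surjective_algebraMap hsq (b i l)
  choose Y hY using fun l => exists_partner hsq φ (y l)
  -- the relation among the `Y`
  have hd0 : ∀ i, (EtMil.glueFst B' φ) (x i - ∑ l, β i l • Y l) = 0 := fun i => by
    rw [map_sub, map_sum, show (EtMil.glueFst B' φ) (x i) = _ from hy i, sub_eq_zero]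
    exact Finset.sum_congr rfl fun l _ => by rw [map_smul, hY, ← algebraMap_smul B (β i l), hβ]
  choose kd jd qd hd using fun i =>
    show ∃ (k : ℕ) (j : Fin k → B') (q : Fin k → ↥(EtMil.glue B' φ)),
      (∀ l, j l ∈ J) ∧ x i - ∑ l, β i l • Y l = ∑ l, j l • q l from by
      refine Submodule.smul_induction_on ((mem_smul_iff hsq φ).2 (hd0 i)) (fun c hc z _ => ?_) fun p q hp hq => ?_
      · exact ⟨1, fun _ => c, fun _ => z, fun _ => hc, by simp⟩
      · obtain ⟨k, j, w, hj, rfl⟩ := hp
        obtain ⟨k', j', w', hj', rfl⟩ := hq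
        refine ⟨k + k', Fin.append j j', Fin.append w w', fun l => Fin.addCases (fun l => by simpa using hj l)
          (fun l => by simpa using hj' l) l, ?_⟩
        rw [Fin.sum_univ_add]
        simp
  let S1 := Fin s ⊕ Σ i : Fin r, Fin (kd i)
  let co : Fin r → S1 → B' := fun i t =>
    Sum.elim (fun l => β i l) (fun q => if q.1 = i then jd q.1 q.2 else 0) t
  let Q : S1 → ↥(EtMil.glue B' φ) := Sum.elim Y fun q => qd q.1 q.2
  have hxQ : ∀ i, x i = ∑ t, co i t • Q t := fun i => by
    rw [Fintype.sum_sum_type, Fintype.sum_sigma, Finset.sum_eq_single i (fun i' _ hne => ?_)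
      (fun h => absurd (Finset.mem_univ i) h)]
    · simp only [co, Q, Sum.elim_inl, Sum.elim_inr, if_true]
      rw [← (hd i).2]
      abel
    · simp [co, hne]
  let G : S1 → B' := fun t => ∑ i, f i * co i t
  have hGJ : ∀ t, G t ∈ J := by
    rintro (l | q)
    · rw [RingHom.mem_ker, map_sum, ← hb l]
      exact Finset.sum_congr rfl fun i _ => by simp [co, hβ]
    · refine Ideal.sum_mem _ fun i _ => Ideal.mul_mem_left _ _ ?_
      simp only [co, Sum.elim_inr]
      split_ifs
      · exact (hd q.1).1 q.2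
      · exact zero_mem _
  have hGQ : ∑ t, G t • Q t = 0 := by
    rw [← hx]
    simp only [G, Finset.sum_smul]
    rw [Finset.sum_comm]
    exact Finset.sum_congr rfl fun i _ => by rw [hxQ, Finset.smul_sum]; simp only [mul_smul]
  let et := Fintype.equivFin S1
  have hM : ∑ t, algebraMap B' A' (G (et.symm t)) • (EtMil.glueSnd B' φ) (Q (et.symm t)) = 0 := by
    rw [Fintype.sum_equiv et.symm _ (fun t => algebraMap B' A' (G t) • (EtMil.glueSnd B' φ) (Q t)) fun t => rfl]
    have h := congrArg (EtMil.glueSnd B' φ) hGQ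
    rw [map_sum, map_zero] at h
    rw [← h]
    exact Finset.sum_congr rfl fun t _ => by rw [map_smul, algebraMap_smul]
  obtain ⟨m, a, z, hz, hga⟩ := (Module.Flat.iff_forall_isTrivialRelation.1 inferInstance) hM
  let a0 : S1 → Fin m → A' := fun t p => a (et t) p
  have hQz : ∀ t, (EtMil.glueSnd B' φ) (Q t) = ∑ p, a0 t p • z p := fun t => by
    have := hz (et t)
    simpa using this
  have hGa : ∀ p, ∑ t, algebraMap B' A' (G t) * a0 t p = 0 := fun p => by
    rw [← hga p]
    exact Fintype.sum_equiv et _ _ fun t => by simp [a0]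
  -- `G' ⊆ A'^S1` the relations of `G`, and its preimage in `B^S1`
  let G' : Submodule A' (S1 → A') :=
    LinearMap.ker (Fintype.linearCombination A' fun t => algebraMap B' A' (G t))
  let red : (S1 → A') →ₗ[A'] (S1 → A) := LinearMap.pi fun t => (Algebra.linearMap A' A).comp (LinearMap.proj t)
  let G0 : Submodule A (S1 → A) := Submodule.span A (red '' (G' : Set (S1 → A')))
  have hG0 : ∀ v ∈ G0, ∃ g ∈ G', red g = v := by
    intro v hv
    induction hv using Submodule.span_induction with
    | mem v hv => obtain ⟨g, hg, rfl⟩ := hv; exact ⟨g, hg, rfl⟩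
    | zero => exact ⟨0, zero_mem _, map_zero _⟩
    | add v w _ _ hv hw =>
      obtain ⟨g, hg, rfl⟩ := hv
      obtain ⟨g', hg', rfl⟩ := hw
      exact ⟨g + g', add_mem hg hg', map_add _ _ _⟩
    | smul c v _ hv =>
      obtain ⟨g, hg, rfl⟩ := hv
      obtain ⟨c', rfl⟩ := hsq.1 c
      exact ⟨c' • g, Submodule.smul_mem _ _ hg, by rw [map_smul, algebraMap_smul]⟩
  let redB : (S1 → B) →ₗ[B] (S1 → A) := LinearMap.pi fun t => (Algebra.linearMap B A).comp (LinearMap.proj t)
  let H : Submodule B (S1 → B) := (G0.restrictScalars B).comap redB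
  -- `Q` lies in `H ⊗ N`
  let Z : (S1 → B) ⊗[B] N := ∑ t, (Pi.single t (1 : B) : S1 → B) ⊗ₜ[B] (EtMil.glueFst B' φ) (Q t)
  have hZ : H.mkQ.rTensor N Z = 0 := by
    let ψ : ((S1 → B) ⧸ H) →ₗ[B] ((S1 → A) ⧸ G0) :=
      H.liftQ ((G0.mkQ.restrictScalars B).comp redB) fun v hv => by
        simpa [H] using hv
    have hψ : Function.Injective ψ := by
      rw [← LinearMap.ker_eq_bot, Submodule.ker_liftQ_eq_bot _ _ _ fun v hv => by simpa [H] using hv]
    apply (Module.Flat.rTensor_preserves_injective_linearMap (M := N) ψ hψ)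
    rw [map_zero]
    let C := (S1 → A) ⧸ G0
    let e2 : C ⊗[A] (A ⊗[B] N) ≃ₗ[A] C ⊗[B] N := AlgebraTensorModule.cancelBaseChange B A A C N
    have hsum : ψ.rTensor N (H.mkQ.rTensor N Z) =
        ∑ t, G0.mkQ (Pi.single t 1) ⊗ₜ[B] (EtMil.glueFst B' φ) (Q t) := by
      simp only [Z, map_sum, LinearMap.rTensor_tmul]
      refine Finset.sum_congr rfl fun t _ => ?_
      congr 1
      show G0.mkQ (redB (Pi.single t 1)) = _
      congr 1
      funext t'
      by_cases h : t' = t
      · subst h; simp [redB]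
      · simp [redB, h]
    rw [hsum]
    have he2 : ∀ (c : C) (n : N), c ⊗ₜ[B] n = e2 (c ⊗ₜ[A] ((1 : A) ⊗ₜ[B] n)) := fun c n => by
      simp [e2]
    simp only [he2, ← map_sum]
    convert map_zero e2
    have hphi : ∀ t, (1 : A) ⊗ₜ[B] (EtMil.glueFst B' φ) (Q t) =
        ∑ p, algebraMap A' A (a0 t p) • φ.symm ((1 : A) ⊗ₜ[A'] z p) := fun t => by
      apply φ.injective
      rw [show φ ((1 : A) ⊗ₜ[B] (EtMil.glueFst B' φ) (Q t)) = (1 : A) ⊗ₜ[A'] (EtMil.glueSnd B' φ) (Q t) from (Q t).2, hQz, map_sum, tmul_sum]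
      exact Finset.sum_congr rfl fun p _ => by
        rw [map_smul, φ.apply_symm_apply, tmul_smul, algebraMap_smul]
    simp only [hphi, tmul_sum, tmul_smul, smul_tmul']
    rw [Finset.sum_comm]
    refine Finset.sum_eq_zero fun p _ => ?_
    rw [← sum_tmul]
    convert zero_tmul (R := A) C _
    simp only [← map_smul, ← map_sum]
    rw [Submodule.mkQ_apply, Submodule.Quotient.mk_eq_zero]
    refine Submodule.subset_span ⟨fun t => a0 t p, ?_, ?_⟩
    · show Fintype.linearCombination A' (fun t => algebraMap B' A' (G t)) (fun t => a0 t p) = 0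
      rw [Fintype.linearCombination_apply, ← hGa p]
      exact Finset.sum_congr rfl fun t _ => by rw [smul_eq_mul, mul_comm]
    · funext t
      simp [red, Finset.sum_apply, Pi.single_apply]
      rw [Finset.sum_eq_single t (fun t' _ h => if_neg (Ne.symm h)) (fun h => absurd (Finset.mem_univ t) h),
        if_pos rfl, Algebra.smul_def, mul_one]
  obtain ⟨W, hW⟩ := (rTensor_exact N (LinearMap.exact_subtype_mkQ H) H.mkQ_surjective Z).1 hZ
  have hspanW : ∀ W : H ⊗[B] N, ∃ (k : ℕ) (h : Fin k → H) (n : Fin k → N),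
      W = ∑ p, h p ⊗ₜ[B] n p := by
    intro W
    induction W using TensorProduct.induction_on with
    | zero => exact ⟨0, Fin.elim0, Fin.elim0, by simp⟩
    | tmul h n => exact ⟨1, fun _ => h, fun _ => n, by simp⟩
    | add v w hv hw =>
      obtain ⟨k, h, n, rfl⟩ := hv
      obtain ⟨k', h', n', rfl⟩ := hw
      refine ⟨k + k', Fin.append h h', Fin.append n n', ?_⟩
      rw [Fin.sum_univ_add]
      simp
  obtain ⟨c, hh, nn, rfl⟩ := hspanW W
  have hQn : ∀ t, (EtMil.glueFst B' φ) (Q t) = ∑ p, (hh p : S1 → B) t • nn p := fun t => by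
    have h := congrArg ((TensorProduct.lid B N).toLinearMap ∘ₗ ((LinearMap.proj t : (S1 → B) →ₗ[B] B).rTensor N)) hW
    simp only [Z, map_sum, LinearMap.coe_comp, LinearEquiv.coe_coe, Function.comp_apply,
      LinearMap.rTensor_tmul, TensorProduct.lid_tmul, LinearMap.proj_apply, Submodule.coe_subtype] at h
    rw [h, Finset.sum_eq_single t (fun t' _ ht' => by simp [Ne.symm ht']) (fun h => absurd (Finset.mem_univ t) h)]
    simp
  have hlift : ∀ p, ∃ e : S1 → B', (∀ t, algebraMap B' B (e t) = (hh p : S1 → B) t) ∧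
      ∑ t, G t * e t = 0 := by
    intro p
    obtain ⟨g, hg, hg'⟩ := hG0 _ (hh p).2
    have hg2 : ∀ t, algebraMap A' A (g t) = algebraMap B A ((hh p : S1 → B) t) := fun t => congrFun hg' t
    choose e he using fun t => hsq.2 ((hh p : S1 → B) t) (g t) (hg2 t).symm
    refine ⟨e, fun t => (he t).1.1, ext_of_mem_ker hsq
      (Ideal.sum_mem _ fun t _ => Ideal.mul_mem_right _ _ (hGJ t)) (zero_mem _) ?_⟩
    rw [map_sum, map_zero]
    have hg3 : Fintype.linearCombination A' (fun t => algebraMap B' A' (G t)) g = 0 := hg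
    rw [Fintype.linearCombination_apply] at hg3
    rw [← hg3]
    exact Finset.sum_congr rfl fun t _ => by rw [map_mul, (he t).1.2, smul_eq_mul, mul_comm]
  choose E hE hEG using hlift
  choose Zp hZp using fun p => exists_partner hsq φ (nn p)
  let d : Fin r → ↥(EtMil.glue B' φ) := fun i => ∑ t, co i t • (Q t - ∑ p, E p t • Zp p)
  have hdsum : ∑ i, f i • d i = 0 := by
    have h1 : ∑ i, f i • d i = ∑ t, G t • (Q t - ∑ p, E p t • Zp p) := by
      simp only [d, G, Finset.smul_sum, Finset.sum_smul, mul_smul]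
      rw [Finset.sum_comm]
    rw [h1]
    simp only [smul_sub, Finset.sum_sub_distrib, hGQ, Finset.smul_sum, smul_smul, zero_sub, neg_eq_zero]
    rw [Finset.sum_comm]
    refine Finset.sum_eq_zero fun p _ => ?_
    rw [← Finset.sum_smul, hEG, zero_smul]
  have hd1 : ∀ i, (EtMil.glueFst B' φ) (d i) = 0 := fun i => by
    simp only [d, map_sum, map_smul, map_sub]
    refine Finset.sum_eq_zero fun t _ => ?_
    rw [hQn, Finset.sum_congr rfl (fun p _ => ?_), sub_self, smul_zero]
    rw [hZp, ← hE, algebraMap_smul]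
  obtain ⟨k2, a2, y2, hy2, ha2⟩ := step2 d hd1 hdsum
  refine ⟨c + k2, fun i => Fin.append (fun p => ∑ t, co i t * E p t) (a2 i), Fin.append Zp y2,
    fun i => ?_, fun l => ?_⟩
  · rw [Fin.sum_univ_add]
    simp only [Fin.append_left, Fin.append_right, ← hy2 i, d, smul_sub, Finset.sum_sub_distrib,
      Finset.sum_smul, Finset.smul_sum, mul_smul]
    rw [hxQ, Finset.sum_comm (γ := S1)]
    abel
  · induction l using Fin.addCases with
    | left p =>
      simp only [Fin.append_left, Finset.mul_sum, ← mul_assoc]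
      rw [Finset.sum_comm]
      simp only [← Finset.sum_mul]
      exact hEG p
    | right q => simp only [Fin.append_right]; exact ha2 q

end Partner

end Groth.Agent.MilnorLib
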